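import Cfsg.Agent.H274.GoodLie
import Cfsg.Agent.H274.TwF4Star
import Cfsg.Agent.H276.CStarU33
import Cfsg.Agent.H276.CStarTits

/-!
`C*(G,T) = G` for the simple groups in `Chev(2)` (helper274).

* `allTop_or` : a simple group `G ∈ Chev(2)` satisfies `C*(G,T) = G` for all Sylow 2-subgroups `T`, or is one of
  `L₂(2ⁿ)`, `L₃(2ⁿ)`, `PSp₄(2ⁿ)`, `U₃(2ⁿ)`, `Sz(q)` (`GoodLie.Exc`), `A₆`.
-/

set_option autoImplicit false

namespace Cfsg.Agent.H274.CStarChev

open Cfsg Cfsg.Agent.H276.CStarBase Cfsg.Agent.H274.GoodLie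

theorem allTop_or_of_lie {G : Type*} [Group G] [Finite G] [IsSimpleGroup G] (hna : ¬ IsMulCommutative G)
    (h : IsLieTypeChar 2 G) : AllTop G ∨ Exc G := by
  have hc : ∃ a b : G, a * b ≠ b * a := by
    by_contra hcon
    push Not at hcon
    exact hna ⟨⟨hcon⟩⟩
  rcases good_or h with h1 | h1 | h1
  · exact Or.inl (h1.allTop hc)
  · exact Or.inl (TwF4Star.allTop h1)
  · exact Or.inr h1

/-- **`C*(G,T) = G` for `G ∈ Chev(2)`, with the exceptions.** -/
theorem allTop_or {G : Type*} [Group G] [Finite G] [IsSimpleGroup G] (hna : ¬ IsMulCommutative G)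
    (h : IsChevSimple 2 G) : AllTop G ∨ Exc G ∨ Nonempty (G ≃* alternatingGroup (Fin 6)) := by
  rcases h with h | ⟨-, h | ⟨F, i1, i2, hF, ⟨e⟩⟩ | h⟩ | ⟨h, -⟩
  · rcases allTop_or_of_lie hna h with h1 | h1
    · exact Or.inl h1
    · exact Or.inr (Or.inl h1)
  · exact Or.inr (Or.inr h)
  · exact Or.inl (H276.CStarU33.allTop hF e)
  · exact Or.inl (H276.CStarTits.allTop h)
  · norm_num at h

end Cfsg.Agent.H274.CStarChev
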