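import Cfsg.Agent.S0243
import Cfsg.Agent.S0249
import Cfsg.Agent.S0495
import Cfsg.Agent.H46.CharTwoList
import Cfsg.Agent.QTKE.Final
import Cfsg.Agent.QTKE.Iso
import Cfsg.Agent.TwoGenCore.IsoMEleven
import Cfsg.Agent.H44.CTh
import Cfsg.Agent.H44.CM24
import Cfsg.Agent.H44.CJ4
import Cfsg.Agent.H44.CCo2
import Cfsg.Agent.H276.CStarG23
import Cfsg.Agent.H274.CStarChev
import Cfsg.Prelude.Def_LocalEven

/-!
The simple groups of local characteristic 2 with `C*(G,T) ≠ G` (S3051, helper274): `main`.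
-/

set_option autoImplicit false

namespace Cfsg.Agent.H274.CStarList

open Cfsg Cfsg.Agent.H276.CStarBase Cfsg.Agent.H274.GoodLie

/-- the list of S3051 -/
def List (G : Type*) [Group G] : Prop :=
    (∃ (F : Type) (_ : Field F) (_ : Fintype F) (q : ℕ), Fintype.card F = q ∧
        (q = 11 ∨ ∃ k : ℕ, q = 2 ^ k + 1 ∨ q + 1 = 2 ^ k) ∧
        Nonempty (G ≃* Matrix.ProjectiveSpecialLinearGroup (Fin 2) F)) ∨
      Nonempty (G ≃* Matrix.ProjectiveSpecialLinearGroup (Fin 3) (ZMod 3)) ∨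
      (∃ (F : Type) (_ : Field F) (_ : Fintype F), Fintype.card F = 9 ∧ Nonempty (G ≃* Cfsg.PSU 4 F 3)) ∨
      Cfsg.Spor.IsoM11 G ∨ Cfsg.Spor.IsoM22 G ∨ Cfsg.Spor.IsoM23 G ∨ Cfsg.Spor.IsoJ3 G ∨
      (∃ (F : Type) (_ : Field F) (_ : Fintype F) (n : ℕ), 2 ≤ n ∧ Fintype.card F = 2 ^ n ∧
        (Nonempty (G ≃* Matrix.ProjectiveSpecialLinearGroup (Fin 2) F) ∨
          Nonempty (G ≃* Matrix.ProjectiveSpecialLinearGroup (Fin 3) F) ∨ Nonempty (G ≃* Cfsg.PSp 2 F))) ∨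
      (∃ (F : Type) (_ : Field F) (_ : Fintype F) (n : ℕ), 2 ≤ n ∧ Fintype.card F = 2 ^ (2 * n) ∧
        Nonempty (G ≃* Cfsg.PSU 3 F (2 ^ n))) ∨
      (∃ (F : Type) (_ : Field F) (_ : Fintype F) (n : ℕ), 2 ≤ n ∧ Fintype.card F = 2 ^ (2 * n - 1) ∧
        Nonempty (G ≃* ↥(Cfsg.Lie.Sz F (2 ^ n))))

theorem list_psl2 {G : Type*} [Group G] {F : Type} [Field F] [Fintype F] {q : ℕ} (hF : Fintype.card F = q)
    (hq : q = 11 ∨ ∃ k : ℕ, q = 2 ^ k + 1 ∨ q + 1 = 2 ^ k)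
    (e : G ≃* Matrix.ProjectiveSpecialLinearGroup (Fin 2) F) : List G :=
  Or.inl ⟨F, inferInstance, inferInstance, q, hF, hq, ⟨e⟩⟩

/-- `L₃(2) ≅ L₂(7)` -/
theorem psl_three_two {F : Type} [Field F] [Fintype F] (hF : Fintype.card F = 2) :
    Nonempty (Matrix.ProjectiveSpecialLinearGroup (Fin 3) F ≃* Matrix.ProjectiveSpecialLinearGroup (Fin 2) (ZMod 7)) := by
  have hs : IsSimpleGroup (Matrix.ProjectiveSpecialLinearGroup (Fin 3) F) := Cfsg.Agent.S0249.result 3 le_rfl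
  have hc : Nat.card (Matrix.ProjectiveSpecialLinearGroup (Fin 3) F) = 168 := by
    have h1 := Cfsg.Agent.S0243.result hF 3 (by norm_num)
    rw [Fin.prod_univ_three] at h1
    simp at h1
    omega
  have hp : Fact (Nat.Prime 7) := ⟨by norm_num⟩
  have : Finite (Matrix.ProjectiveSpecialLinearGroup (Fin 3) F) := Quotient.finite _
  exact Cfsg.Agent.S0495.result hc (F := ZMod 7) (ZMod.card 7)

theorem even_of {G : Type*} [Group G] (h : IsCharacteristicTwoType G) : IsOfEvenCharacteristic G := by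
  rintro M ⟨T, hT, hT1, rfl⟩ -
  exact h.2 T hT hT1

theorem exists_pow {F : Type} [Field F] [Fintype F] [CharP F 2] : ∃ n, 0 < n ∧ Fintype.card F = 2 ^ n := by
  obtain ⟨k, -, hk⟩ := FiniteField.card F 2
  exact ⟨k, k.pos, hk⟩

theorem two_le_of {n m : ℕ} (h : m = 2 ^ n) (h3 : 3 ≤ m) : 2 ≤ n := by
  by_contra hn
  have : n = 0 ∨ n = 1 := by omega
  rcases this with rfl | rfl <;> norm_num at h <;> omega

/-- the exceptions in `Chev(2)` -/
theorem list_of_exc {G : Type*} [Group G] (h : Exc G) : List G := by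
  rcases h with ⟨F, i1, i2, i3, h4, ⟨e⟩⟩ | ⟨F, i1, i2, i3, ⟨e⟩⟩ | ⟨F, i1, i2, i3, h3, ⟨e⟩⟩ |
    ⟨F, i1, i2, i3, q, hF, hq, ⟨e⟩⟩ | ⟨F, i1, i2, m, hm, hF, ⟨e⟩⟩
  · obtain ⟨n, -, hn⟩ := exists_pow (F := F)
    exact Or.inr (Or.inr (Or.inr (Or.inr (Or.inr (Or.inr (Or.inr (Or.inl
      ⟨F, i1, i2, n, two_le_of hn (by omega), hn, Or.inl ⟨e⟩⟩)))))))
  · obtain ⟨n, hn0, hn⟩ := exists_pow (F := F)
    rcases (show n = 1 ∨ 2 ≤ n by omega) with rfl | h2
    · obtain ⟨f⟩ := psl_three_two (F := F) (by rw [hn]; norm_num)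
      exact list_psl2 (F := ZMod 7) (q := 7) (ZMod.card 7) (Or.inr ⟨3, Or.inr (by norm_num)⟩) (e.trans f)
    · exact Or.inr (Or.inr (Or.inr (Or.inr (Or.inr (Or.inr (Or.inr (Or.inl
        ⟨F, i1, i2, n, h2, hn, Or.inr (Or.inl ⟨e⟩)⟩)))))))
  · obtain ⟨n, -, hn⟩ := exists_pow (F := F)
    exact Or.inr (Or.inr (Or.inr (Or.inr (Or.inr (Or.inr (Or.inr (Or.inl
      ⟨F, i1, i2, n, two_le_of hn h3, hn, Or.inr (Or.inr ⟨e⟩)⟩)))))))
  · obtain ⟨k, -, hk⟩ := exists_pow (F := F)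
    have h1 : q ∣ 2 ^ k := by rw [← hk, hF]; exact dvd_pow_self q two_ne_zero
    obtain ⟨n, -, rfl⟩ := (Nat.dvd_prime_pow Nat.prime_two).1 h1
    have h2 : 2 ≤ n := by
      by_contra hn
      have : n = 0 ∨ n = 1 := by omega
      rcases this with rfl | rfl
      · have h5 := Fintype.one_lt_card (α := F)
        rw [hF] at h5
        norm_num at h5
      · exact hq (by norm_num)
    exact Or.inr (Or.inr (Or.inr (Or.inr (Or.inr (Or.inr (Or.inr (Or.inr (Or.inl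
      ⟨F, i1, i2, n, h2, by rw [hF, ← pow_mul, mul_comm], ⟨e⟩⟩))))))))
  · exact Or.inr (Or.inr (Or.inr (Or.inr (Or.inr (Or.inr (Or.inr (Or.inr (Or.inr
      ⟨F, i1, i2, m + 1, by omega, by rw [hF]; congr 1, ⟨e⟩⟩))))))))

theorem list_of_alt {G : Type*} [Group G] (h : Nonempty (G ≃* alternatingGroup (Fin 6))) : List G := by
  obtain ⟨e⟩ := h
  let _ := Fintype.ofFinite (GaloisField 3 2)
  have h9 : Fintype.card (GaloisField 3 2) = 9 := by
    rw [← Nat.card_eq_fintype_card, GaloisField.card 3 2 (by norm_num)]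
    norm_num
  obtain ⟨f⟩ := QTKE.Iso.psl29 (GaloisField 3 2) h9
  exact list_psl2 h9 (Or.inr ⟨3, Or.inl (by norm_num)⟩) (e.trans f.symm)

/-- the groups of 2-rank at most 2 -/
theorem list_of_small {G : Type*} [Group G] [Finite G] [IsSimpleGroup G] (hna : ¬ IsMulCommutative G)
    (hc : IsCharacteristicTwoType G) (h : H46.CharTwoSmall G) : List G ∨ AllTop G := by
  rcases h with ⟨F, i1, i2, hF, h5, ⟨e⟩⟩ | ⟨F, i1, i2, hF, ⟨e⟩⟩ | ⟨F, i1, i2, hF, ⟨e⟩⟩ | ⟨F, i1, i2, hF, ⟨e⟩⟩ | h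
  · left
    have hE := even_of hc
    by_cases hp : IsTwoPowerNeighbourPrime (Fintype.card F)
    · obtain ⟨-, ⟨k, -, hk⟩ | ⟨k, hk⟩⟩ := hp
      · exact list_psl2 (F := F) rfl (Or.inr ⟨k, Or.inl hk⟩) e
      · exact list_psl2 (F := F) rfl (Or.inr ⟨k, Or.inr hk⟩) e
    · by_cases h9 : Fintype.card F = 9
      · exact list_psl2 (F := F) h9 (Or.inr ⟨3, Or.inl (by norm_num)⟩) e
      · exact ((QTKE.rows.psl2 F hF (by omega) hp h9).oddCore hna e hE).elim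
  · left
    have h3 : Fintype.card F = Fintype.card (ZMod 3) := by rw [hF]; rfl
    exact Or.inr (Or.inl ⟨e.trans (LieClassical.FieldTransfer.pslCongr (FiniteField.ringEquivOfCardEq h3))⟩)
  · exact Or.inr (H276.CStarU33.allTop hF e)
  · left
    exact Or.inr (Or.inr (Or.inr (Or.inr (Or.inr (Or.inr (Or.inr (Or.inr (Or.inl
      ⟨F, i1, i2, 2, le_rfl, hF, ⟨e⟩⟩))))))))
  · exact Or.inl (Or.inr (Or.inr (Or.inr (Or.inl (TwoGenCore.IsoMEleven.isoM11 h)))))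

universe u

/-- **The global `C*(G,T)`-theorem** (`hkn` : the classification). -/
theorem main (hkn : ∀ (X : Type u) [Group X] [Finite X] [IsSimpleGroup X], IsKnownSimple' X)
    {G : Type u} [Group G] [Finite G] [IsSimpleGroup G] (hG : ¬ IsMulCommutative G) (hloc : Cfsg.IsOfLocalCharacteristic 2 G)
    (T : Sylow 2 G) (hC : Cfsg.cStarOf 2 (T : Subgroup G) ≠ ⊤) : List G := by
  have hc : IsCharacteristicTwoType G := ⟨even_iff_two_dvd.2 hloc.1, hloc.2⟩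
  have hA : ¬ AllTop G := fun h => hC (h T)
  by_cases h2 : PRankLE 2 2 G
  · exact (list_of_small hG hc (H46.charTwoSmall hG hc h2)).resolve_right hA
  rcases H46.charTwoList hkn hG hc h2 with h | h
  · rcases CStarChev.allTop_or hG h with h1 | h1 | h1
    · exact absurd h1 hA
    · exact list_of_exc h1
    · exact list_of_alt h1
  · rcases h with ⟨F, i1, i2, n, q, -, hF, ⟨rfl, rfl⟩, e⟩ | ⟨F, i1, i2, -, hF, ⟨e⟩⟩ | h | h | h | h | h | h | h
    · exact Or.inr (Or.inr (Or.inl ⟨F, i1, i2, by rw [hF]; norm_num, e⟩))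
    · exact absurd (H276.CStarG23.allTop F hF e) hA
    · exact Or.inr (Or.inr (Or.inr (Or.inr (Or.inl h))))
    · exact Or.inr (Or.inr (Or.inr (Or.inr (Or.inr (Or.inl h)))))
    · exact absurd (H44.CM24.cStarTop h) hA
    · exact Or.inr (Or.inr (Or.inr (Or.inr (Or.inr (Or.inr (Or.inl h))))))
    · exact absurd (H44.CJ4.cStarTop h) hA
    · exact absurd (H44.CCo2.cStarTop h) hA
    · exact absurd (H44.CTh.cStarTop h) hA

end Cfsg.Agent.H274.CStarList
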