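import Cfsg.Agent.H167.AltBldg

/-!
# The trace of a type-permuting bijection on the Steinberg module (helper274)

* `Sys.tw_trace_harm` : a bijection `θ` of the system permuting the relations through `σ`: the trace on the harmonic
  functions is the alternating sum over the `σ`-stable sets `K` (sign: the number of `σ`-orbits) of the number of
  fixed `K`-classes.
* `trace_pm_one` : if `θ` permutes the chambers of a finite building, maps the `i`-panels to `σ i`-panels and fixes no
  proper residue, its trace on the Steinberg module is `± 1`.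
-/

set_option autoImplicit false
set_option linter.unusedSectionVars false
set_option linter.unusedVariables false

namespace Cfsg.Agent.H274.TwTrace

open Module Cfsg Cfsg.Agent.H167.AltTrace Cfsg.Agent.H167.AltTrace.Sys

variable {ι : Type*} [DecidableEq ι] {E : Type*} {T : Finset ι} (S : Sys E T)

/-- the operator `f ↦ f ∘ θ⁻¹` -/
noncomputable def op (θ : E ≃ E) : (E → ℂ) →ₗ[ℂ] (E → ℂ) := LinearMap.funLeft ℂ ℂ θ.symm

theorem op_apply (θ : E ≃ E) (f : E → ℂ) (x : E) : op θ f x = f (θ.symm x) := rfl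

variable (θ : E ≃ E) (σ : Equiv.Perm ι)

section V

variable (hr : ∀ K, K ⊆ T → ∀ x y : E, S.r (K.image σ) (θ x) (θ y) ↔ S.r K x y)

include hr in
theorem op_mem_V {K : Finset ι} (hK : K ⊆ T) {h : E → ℂ} (hh : h ∈ S.V K) : op θ h ∈ S.V (K.image σ) := by
  intro x y hxy
  rw [op_apply, op_apply]
  apply hh
  rw [← hr K hK, θ.apply_symm_apply, θ.apply_symm_apply]
  exact hxy

include hr in
theorem op_mem_V' {K : Finset ι} (hK : K ⊆ T) (hs : K.image σ = K) (h : E → ℂ) (hh : h ∈ S.V K) :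
    op θ h ∈ S.V K := by
  have := op_mem_V S θ σ hr hK hh
  rwa [hs] at this

variable [Fintype E] [Nonempty E]

/-- The diagonal coefficients of `θ` in the adapted basis. -/
noncomputable def co (x : E) : ℂ := S.basis.repr (op θ (S.basis x)) x

include hr in
theorem co_ne {x : E} (hT : T.image σ = T) (h : co S θ x ≠ 0) : (S.N x).image σ = S.N x := by
  classical
  have h1 : op θ (S.basis x) ∈ S.V ((S.N x).image σ) := by
    apply op_mem_V S θ σ hr (S.N_sub x)
    rw [basis_apply]
    exact S.f_mem_V (Finset.Subset.refl _)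
  have hsub : (S.N x).image σ ⊆ T := (Finset.image_subset_image (S.N_sub x)).trans (Finset.subset_of_eq hT)
  have h2 : (S.N x).image σ ⊆ S.N x := by
    by_contra hn
    exact h (S.repr_eq_zero hsub h1 hn)
  apply Finset.eq_of_subset_of_card_le h2
  rw [Finset.card_image_of_injective _ σ.injective]

theorem trace_V {K : Finset ι} (hK : K ⊆ T) (hs : K.image σ = K) [Fintype {i // K ⊆ S.N i}] :
    LinearMap.trace ℂ (S.V K) ((op θ).restrict (op_mem_V' S θ σ hr hK hs)) =
      ∑ x : {i // K ⊆ S.N i}, co S θ x :=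
  trace_restrict_span S.basis (fun i => K ⊆ S.N i) (S.V K) (S.V_eq_span hK) _ _

theorem trace_V' {K : Finset ι} (hK : K ⊆ T) (hs : K.image σ = K) :
    LinearMap.trace ℂ (S.V K) ((op θ).restrict (op_mem_V' S θ σ hr hK hs)) =
      (Nat.card {x // K ⊆ S.N x ∧ S.r K x (θ x)} : ℂ) := by
  classical
  let b : Basis {i // K ⊆ S.N i} ℂ (S.V K) := Basis.ofEquivFun (S.equivV hK)
  rw [LinearMap.trace_eq_matrix_trace ℂ b, Matrix.trace]
  have h2 : ∀ y : {i // K ⊆ S.N i}, (LinearMap.toMatrix b b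
      ((op θ).restrict (op_mem_V' S θ σ hr hK hs))).diag y = if S.r K y (θ (y : E)) then 1 else 0 := by
    intro y
    rw [Matrix.diag_apply, LinearMap.toMatrix_apply]
    have h3 : b.repr (((op θ).restrict (op_mem_V' S θ σ hr hK hs)) (b y)) y =
        ((b y : S.V K) : E → ℂ) (θ.symm (y : E)) := rfl
    have h4 : ∀ z : E, ((b y : S.V K) : E → ℂ) z = if S.r K y z then 1 else 0 := by
      intro z
      have h5 : ((b y : S.V K) : E → ℂ) z = (Pi.single y (1 : ℂ) : {i // K ⊆ S.N i} → ℂ) (S.gt hK z) := by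
        have h6 : b y = (S.equivV hK).symm (Pi.single y 1) := by
          rw [Module.Basis.coe_ofEquivFun]
        rw [h6]
        rfl
      have h7 : S.gt hK z = y ↔ S.r K y z := by
        rw [S.gt_eq_iff hK]
        exact ⟨(S.equiv K hK).symm, (S.equiv K hK).symm⟩
      rw [h5]
      by_cases h8 : S.r K y z
      · rw [if_pos h8, h7.2 h8, Pi.single_eq_same]
      · rw [if_neg h8, Pi.single_eq_of_ne (fun h9 => h8 (h7.1 h9))]
    rw [h3, h4]
    have h5 : S.r K y (θ.symm (y : E)) ↔ S.r K y (θ (y : E)) := by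
      have h6 := hr K hK (y : E) (θ.symm (y : E))
      rw [θ.apply_symm_apply, hs] at h6
      rw [← h6]
      exact ⟨(S.equiv K hK).symm, (S.equiv K hK).symm⟩
    by_cases h : S.r K y (θ (y : E))
    · rw [if_pos h, if_pos (h5.2 h)]
    · rw [if_neg h, if_neg (fun h6 => h (h5.1 h6))]
  rw [Finset.sum_congr rfl fun y _ => h2 y, Finset.sum_boole]
  congr 1
  rw [← Fintype.card_subtype, ← Nat.card_eq_fintype_card]
  exact Nat.card_congr (Equiv.subtypeSubtypeEquivSubtypeInter (fun y => K ⊆ S.N y) (fun y => S.r K y (θ y)))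

include hr in
theorem op_mem_harm (hT : T.image σ = T) (v : E → ℂ) (hv : v ∈ S.harm) : op θ v ∈ S.harm := by
  classical
  intro t ht x
  have ht' : σ.symm t ∈ T := by
    rw [← hT, Finset.mem_image] at ht
    obtain ⟨s, hs, rfl⟩ := ht
    rwa [σ.symm_apply_apply]
  have h1 := hv (σ.symm t) ht' (θ.symm x)
  refine Eq.trans ?_ h1
  refine Fintype.sum_equiv θ.symm _ _ fun y => ?_
  have h2 := hr {σ.symm t} (Finset.singleton_subset_iff.2 ht') (θ.symm x) (θ.symm y)
  rw [Finset.image_singleton, σ.apply_symm_apply, θ.apply_symm_apply, θ.apply_symm_apply] at h2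
  by_cases h : S.r {t} x y
  · rw [if_pos h, if_pos (h2.1 h), op_apply]
  · rw [if_neg h, if_neg (fun h3 => h (h2.2 h3))]

include hr in
theorem op_mem_W (hT : T.image σ = T) (v : E → ℂ) (hv : v ∈ S.W) : op θ v ∈ S.W := by
  classical
  induction hv using Submodule.span_induction with
  | mem v hv =>
    obtain ⟨⟨i, hi⟩, rfl⟩ := hv
    obtain ⟨t, ht⟩ := Finset.nonempty_iff_ne_empty.2 hi
    have ht' : σ t ∈ T := by
      rw [← hT]
      exact Finset.mem_image_of_mem _ (S.N_sub i ht)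
    apply S.V_le_W ht'
    have h1 : op θ (S.basis i) ∈ S.V (({t} : Finset ι).image σ) := by
      apply op_mem_V S θ σ hr (Finset.singleton_subset_iff.2 (S.N_sub i ht))
      rw [basis_apply]
      exact S.f_mem_V (Finset.singleton_subset_iff.2 ht)
    rwa [Finset.image_singleton] at h1
  | zero => rw [map_zero]; exact Submodule.zero_mem _
  | add a b _ _ ha hb => rw [map_add]; exact Submodule.add_mem _ ha hb
  | smul c a _ ha => rw [map_smul]; exact Submodule.smul_mem _ _ ha

/-- The trace on the harmonic functions is the sum of the diagonal coefficients at the elements with `N x = ∅`. -/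
theorem trace_harm_eq (hT : T.image σ = T) :
    LinearMap.trace ℂ S.harm ((op θ).restrict (op_mem_harm S θ σ hr hT)) =
      ∑ x, if S.N x = ∅ then co S θ x else 0 := by
  classical
  have h1 := trace_isCompl S.isCompl_harm (op θ) (op_mem_harm S θ σ hr hT) (op_mem_W S θ σ hr hT)
  have h2 : LinearMap.trace ℂ S.W ((op θ).restrict (op_mem_W S θ σ hr hT)) =
      ∑ x : {i // S.N i ≠ ∅}, co S θ x :=
    trace_restrict_span S.basis (fun i => S.N i ≠ ∅) S.W rfl _ _
  have h3 : LinearMap.trace ℂ (E → ℂ) (op θ) = ∑ x, co S θ x := by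
    rw [LinearMap.trace_eq_matrix_trace ℂ S.basis, Matrix.trace]
    refine Finset.sum_congr rfl fun i _ => ?_
    rw [Matrix.diag_apply, LinearMap.toMatrix_apply]
    rfl
  have h4 : ∑ x : {i // S.N i ≠ ∅}, co S θ x = ∑ x, if S.N x ≠ ∅ then co S θ x else 0 := by
    rw [← Finset.sum_filter]
    refine (Finset.sum_subtype (Finset.univ.filter (fun x => S.N x ≠ ∅)) (p := fun i => S.N i ≠ ∅) ?_
      (fun x => co S θ x)).symm
    intro x
    simp
  have h5 : ∑ x, co S θ x = (∑ x, if S.N x = ∅ then co S θ x else 0) +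
      ∑ x, if S.N x ≠ ∅ then co S θ x else 0 := by
    rw [← Finset.sum_add_distrib]
    refine Finset.sum_congr rfl fun x _ => ?_
    by_cases h : S.N x = ∅
    · simp [h]
    · simp [h]
  rw [h3, h2, h4, h5] at h1
  exact (add_right_cancel h1).symm

end V

/-! ### the orbits of `σ` -/

/-- the orbit of `i` -/
def orb (i : ι) : Quotient (Equiv.Perm.SameCycle.setoid σ) := Quotient.mk _ i

open Classical in
/-- the union of some orbits -/
noncomputable def un (T : Finset ι) (𝒦 : Finset (Quotient (Equiv.Perm.SameCycle.setoid σ))) : Finset ι :=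
  T.filter fun i => orb σ i ∈ 𝒦

theorem orb_apply (i : ι) : orb σ (σ i) = orb σ i :=
  Quotient.sound ((Equiv.Perm.sameCycle_apply_left).2 (Equiv.Perm.SameCycle.refl σ i))

theorem un_sub (𝒦 : Finset (Quotient (Equiv.Perm.SameCycle.setoid σ))) : un σ T 𝒦 ⊆ T := by
  classical
  intro i hi
  unfold un at hi
  exact (Finset.mem_filter.1 hi).1

theorem image_un (hT : T.image σ = T) (𝒦 : Finset (Quotient (Equiv.Perm.SameCycle.setoid σ))) :
    (un σ T 𝒦).image σ = un σ T 𝒦 := by
  classical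
  apply Finset.eq_of_subset_of_card_le
  · intro j hj
    obtain ⟨i, hi, rfl⟩ := Finset.mem_image.1 hj
    unfold un at hi ⊢
    rw [Finset.mem_filter] at hi ⊢
    refine ⟨?_, ?_⟩
    · rw [← hT]
      exact Finset.mem_image_of_mem _ hi.1
    · rw [orb_apply]
      exact hi.2
  · rw [Finset.card_image_of_injective _ σ.injective]

/-- a stable finite set is closed under the cycles -/
theorem mem_of_sameCycle {K : Finset ι} (hK : K.image σ = K) {i j : ι} (h : σ.SameCycle i j) (hi : i ∈ K) : j ∈ K := by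
  classical
  have h1 : ∀ a, a ∈ K → σ a ∈ K := by
    intro a ha
    rw [← hK]
    exact Finset.mem_image_of_mem _ ha
  have h2 : ∀ a, a ∈ K → σ⁻¹ a ∈ K := by
    intro a ha
    rw [← hK] at ha
    obtain ⟨b, hb, rfl⟩ := Finset.mem_image.1 ha
    simpa using hb
  obtain ⟨n, rfl⟩ := h
  induction n with
  | zero => simpa using hi
  | succ n ih =>
    rw [add_comm, zpow_add, zpow_one]
    exact h1 _ ih
  | pred n ih =>
    rw [sub_eq_neg_add, zpow_add, zpow_neg_one]
    exact h2 _ ih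

open Classical in
theorem un_sub_iff {K : Finset ι} (hK : K.image σ = K) (hKT : K ⊆ T)
    {𝒦 : Finset (Quotient (Equiv.Perm.SameCycle.setoid σ))} (h𝒦 : 𝒦 ⊆ T.image (orb σ)) :
    un σ T 𝒦 ⊆ K ↔ 𝒦 ⊆ K.image (orb σ) := by
  constructor
  · intro h o ho
    obtain ⟨i, hi, rfl⟩ := Finset.mem_image.1 (h𝒦 ho)
    refine Finset.mem_image_of_mem _ (h ?_)
    unfold un
    rw [Finset.mem_filter]
    exact ⟨hi, ho⟩
  · intro h i hi
    unfold un at hi
    rw [Finset.mem_filter] at hi
    obtain ⟨j, hj, hji⟩ := Finset.mem_image.1 (h hi.2)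
    exact mem_of_sameCycle σ hK (Quotient.exact hji) hj

section Sum

variable (hr : ∀ K, K ⊆ T → ∀ x y : E, S.r (K.image σ) (θ x) (θ y) ↔ S.r K x y) [Fintype E] [Nonempty E]

open Classical in
include hr in
theorem sum_co (hT : T.image σ = T) :
    ∑ 𝒦 ∈ (T.image (orb σ)).powerset, (-1 : ℂ) ^ 𝒦.card *
      (Nat.card {x // un σ T 𝒦 ⊆ S.N x ∧ S.r (un σ T 𝒦) x (θ x)} : ℂ) =
      ∑ x, if S.N x = ∅ then co S θ x else 0 := by
  have h1 : ∀ 𝒦 ∈ (T.image (orb σ)).powerset, (-1 : ℂ) ^ 𝒦.card *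
      (Nat.card {x // un σ T 𝒦 ⊆ S.N x ∧ S.r (un σ T 𝒦) x (θ x)} : ℂ) =
      ∑ x, if un σ T 𝒦 ⊆ S.N x then (-1 : ℂ) ^ 𝒦.card * co S θ x else 0 := by
    intro 𝒦 _
    rw [← trace_V' S θ σ hr (un_sub σ 𝒦) (image_un σ hT 𝒦), trace_V S θ σ hr (un_sub σ 𝒦) (image_un σ hT 𝒦),
      Finset.mul_sum]
    rw [← Finset.sum_filter]
    refine (Finset.sum_subtype (Finset.univ.filter (fun x => un σ T 𝒦 ⊆ S.N x)) (p := fun i => un σ T 𝒦 ⊆ S.N i) ?_
      (fun x => (-1 : ℂ) ^ 𝒦.card * co S θ x)).symm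
    intro x
    simp
  rw [Finset.sum_congr rfl h1, Finset.sum_comm]
  refine Finset.sum_congr rfl fun x _ => ?_
  by_cases hx : co S θ x = 0
  · rw [hx]
    simp
  have hN := co_ne S θ σ hr hT hx
  rw [← Finset.sum_filter]
  have h2 : (T.image (orb σ)).powerset.filter (fun 𝒦 => un σ T 𝒦 ⊆ S.N x) = ((S.N x).image (orb σ)).powerset := by
    ext 𝒦
    simp only [Finset.mem_filter, Finset.mem_powerset]
    constructor
    · rintro ⟨h, h'⟩
      exact (un_sub_iff σ hN (S.N_sub x) h).1 h'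
    · intro h
      have h3 : 𝒦 ⊆ T.image (orb σ) := h.trans (Finset.image_subset_image (S.N_sub x))
      exact ⟨h3, (un_sub_iff σ hN (S.N_sub x) h3).2 h⟩
  rw [h2, ← Finset.sum_mul]
  have h3 : ∑ 𝒦 ∈ ((S.N x).image (orb σ)).powerset, (-1 : ℂ) ^ 𝒦.card = if S.N x = ∅ then 1 else 0 := by
    have h4 := Finset.sum_powerset_neg_one_pow_card (x := (S.N x).image (orb σ))
    have h5 := congrArg (Int.cast : ℤ → ℂ) h4
    push_cast at h5
    rw [h5]
    simp only [Finset.image_eq_empty]
  rw [h3]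
  by_cases h : S.N x = ∅
  · rw [if_pos h, if_pos h, one_mul]
  · rw [if_neg h, if_neg h, zero_mul]

open Classical in
/-- **The twisted alternating sum formula for the trace on the harmonic functions.** -/
theorem tw_trace_harm (hT : T.image σ = T) :
    LinearMap.trace ℂ S.harm ((op θ).restrict (op_mem_harm S θ σ hr hT)) =
      ∑ 𝒦 ∈ (T.image (orb σ)).powerset, (-1 : ℂ) ^ 𝒦.card *
        (Nat.card {x // un σ T 𝒦 ⊆ S.N x ∧ S.r (un σ T 𝒦) x (θ x)} : ℂ) := by
  rw [trace_harm_eq S θ σ hr hT, sum_co S θ σ hr hT]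

/-- If there is only one `T`-class and `θ` fixes no class of a proper stable subset, the trace is `± 1`. -/
theorem trace_harm_pm (hT : T.image σ = T) (hall : ∀ x y : E, S.r T x y)
    (hell : ∀ K : Finset ι, K ⊆ T → K ≠ T → K.image σ = K → ∀ x, ¬ S.r K x (θ x)) :
    LinearMap.trace ℂ S.harm ((op θ).restrict (op_mem_harm S θ σ hr hT)) = 1 ∨
      LinearMap.trace ℂ S.harm ((op θ).restrict (op_mem_harm S θ σ hr hT)) = -1 := by
  classical
  rw [tw_trace_harm S θ σ hr hT]
  have hun : un σ T (T.image (orb σ)) = T := by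
    apply Finset.Subset.antisymm (un_sub σ _)
    intro i hi
    unfold un
    rw [Finset.mem_filter]
    exact ⟨hi, Finset.mem_image_of_mem _ hi⟩
  have h1 : ∑ 𝒦 ∈ (T.image (orb σ)).powerset, (-1 : ℂ) ^ 𝒦.card *
        (Nat.card {x // un σ T 𝒦 ⊆ S.N x ∧ S.r (un σ T 𝒦) x (θ x)} : ℂ) = (-1 : ℂ) ^ (T.image (orb σ)).card *
        (Nat.card {x // T ⊆ S.N x ∧ S.r T x (θ x)} : ℂ) := by
    rw [Finset.sum_eq_single_of_mem (T.image (orb σ)) (Finset.mem_powerset_self _), hun]
    intro 𝒦 h𝒦 hne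
    rw [Finset.mem_powerset] at h𝒦
    have h2 : un σ T 𝒦 ≠ T := by
      intro h
      apply hne
      apply Finset.Subset.antisymm h𝒦
      intro o ho
      obtain ⟨i, hi, rfl⟩ := Finset.mem_image.1 ho
      rw [← h] at hi
      unfold un at hi
      exact (Finset.mem_filter.1 hi).2
    have : IsEmpty {x // un σ T 𝒦 ⊆ S.N x ∧ S.r (un σ T 𝒦) x (θ x)} := by
      constructor
      rintro ⟨x, -, hx⟩
      exact hell _ (un_sub σ 𝒦) h2 (image_un σ hT 𝒦) x hx
    rw [Nat.card_of_isEmpty, Nat.cast_zero, mul_zero]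
  have h2 : Nat.card {x // T ⊆ S.N x ∧ S.r T x (θ x)} = 1 := by
    rw [Nat.card_eq_one_iff_unique]
    constructor
    · constructor
      rintro ⟨x, hx, -⟩ ⟨y, hy, -⟩
      exact Subtype.ext (S.gate_unique (Finset.Subset.refl _) hx hy (hall x y))
    · obtain ⟨x⟩ : Nonempty E := inferInstance
      obtain ⟨y, -, hy⟩ := S.gate T (Finset.Subset.refl _) x
      exact ⟨⟨y, hy, hall _ _⟩⟩
  rw [h1, h2, Nat.cast_one, mul_one]
  exact neg_one_pow_eq_or ℂ _

end Sum

/-! ### buildings -/

section Bld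

open Cfsg.Agent.Tits.Core Cfsg.Agent.Tits.Core.Bldg Cfsg.Agent.Tits.Exchange Cfsg.Agent.H167.SteinbergMod
  Cfsg.Agent.H167.AltBldg

variable {I : Type*} [DecidableEq I] {M : CoxeterMatrix I} {W : Type*} [Group W] {cs : CoxeterSystem M W}
  {C : Type*} [Fintype I] [Finite W] [Fintype C] (Δ : Bldg cs C)

/-- **The trace of a type-permuting bijection of the chambers fixing no proper residue on the Steinberg module.** -/
theorem trace_pm_one [Nonempty C] (θ : C ≃ C) (σ : Equiv.Perm I)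
    (hθ : ∀ (K : Finset I) (x y : C), Δ.δ (θ x) (θ y) ∈ WJ cs ((K.image σ : Finset I) : Set I) ↔
      Δ.δ x y ∈ WJ cs (K : Set I))
    (hell : ∀ K : Finset I, K.image σ = K → K ≠ Finset.univ → ∀ x, Δ.δ x (θ x) ∉ WJ cs (K : Set I))
    (A : Harm Δ →ₗ[ℂ] Harm Δ) (hA : ∀ (f : Harm Δ) (x : C), ((A f : Harm Δ) : C → ℂ) x = (f : C → ℂ) (θ.symm x)) :
    LinearMap.trace ℂ (Harm Δ) A = 1 ∨ LinearMap.trace ℂ (Harm Δ) A = -1 := by
  classical
  obtain ⟨c⟩ : Nonempty C := inferInstance
  set S := bSys Δ c with hS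
  have hr : ∀ K, K ⊆ (Finset.univ : Finset I) → ∀ x y : C, S.r (K.image σ) (θ x) (θ y) ↔ S.r K x y := by
    intro K _ x y
    rw [hS, r_bSys, r_bSys]
    exact hθ K x y
  have hT : (Finset.univ : Finset I).image σ = Finset.univ := Finset.image_univ_of_surjective σ.surjective
  have hall : ∀ x y : C, S.r Finset.univ x y := by
    intro x y
    rw [hS, r_bSys, Finset.coe_univ]
    exact mem_WJ_univ cs _
  have h1 := trace_harm_pm S θ σ hr hT hall (fun K _ hK hs x hx => hell K hs hK x hx)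
  have hharm : ∀ v ∈ Harm Δ, op θ v ∈ Harm Δ := by
    intro v hv
    rw [← harm_bSys Δ c] at hv ⊢
    exact op_mem_harm S θ σ hr hT v hv
  have h2 : A = (op θ).restrict hharm := by
    apply LinearMap.ext
    intro f
    apply Subtype.ext
    funext x
    rw [hA f x]
    rfl
  rw [h2, trace_congr (harm_bSys Δ c).symm (op θ) hharm (op_mem_harm S θ σ hr hT)]
  exact h1

end Bld

end Cfsg.Agent.H274.TwTrace
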